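import Mathlib

/-!
# Finitely presented approximations of modules which are finitely presented at some elements
-/

set_option autoImplicit false
set_option linter.all false

universe u

open Function

namespace GrothLib.FPExt9

variable {A : Type u} [CommRing A] {N : Type u} [AddCommGroup N] [Module A N]

/-- `N` is finitely presented after inverting `f`. -/
def FPAt (N : Type u) [AddCommGroup N] [Module A N] (f : A) : Prop :=
  ∃ (R' : Type u) (_ : CommRing R') (_ : Algebra A R') (_ : IsLocalization.Away f R') (N' : Type u)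
    (_ : AddCommGroup N') (_ : Module A N') (_ : Module R' N') (_ : IsScalarTower A R' N') (l : N →ₗ[A] N'),
    IsLocalizedModule (Submonoid.powers f) l ∧ Module.FinitePresentation R' N'

/-- Bijective up to powers of `f`. -/
def BijAt {M : Type u} [AddCommGroup M] [Module A M] (f : A) (ψ : M →ₗ[A] N) : Prop :=
  (∀ y : N, ∃ e : ℕ, f ^ e • y ∈ LinearMap.range ψ) ∧ ∀ m : M, ψ m = 0 → ∃ e : ℕ, f ^ e • m = 0

theorem FPAt.exists_finset {f : A} (h : FPAt N f) :
    ∃ s : Finset N, ∀ y : N, ∃ e : ℕ, f ^ e • y ∈ Submodule.span A (s : Set N) := by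
  classical
  obtain ⟨R', _, _, _, N', _, _, _, _, l, hl, hfp⟩ := h
  obtain ⟨t, ht⟩ := (inferInstance : Module.Finite R' N').fg_top
  choose num hnum using fun z : N' => IsLocalizedModule.surj (Submonoid.powers f) l z
  refine ⟨t.image fun z => (num z).1, fun y => ?_⟩
  have hy : l y ∈ Submodule.span R' (t : Set N') := by rw [ht]; trivial
  have key : ∀ z ∈ Submodule.span R' (t : Set N'),
      ∃ e : ℕ, ∃ w ∈ Submodule.span A ((t.image fun z => (num z).1 : Finset N) : Set N), f ^ e • z = l w := by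
    intro z hz
    induction hz using Submodule.span_induction with
    | mem z hz =>
      obtain ⟨k, hk⟩ := (num z).2.2
      refine ⟨k, (num z).1, Submodule.subset_span (Finset.mem_image_of_mem _ hz), ?_⟩
      rw [show f ^ k = ((num z).2 : A) from hk]
      exact hnum z
    | zero => exact ⟨0, 0, Submodule.zero_mem _, by simp⟩
    | add a b _ _ ha hb =>
      obtain ⟨e, v, hv, hev⟩ := ha
      obtain ⟨e', w, hw, hew⟩ := hb
      refine ⟨e + e', f ^ e' • v + f ^ e • w, add_mem (Submodule.smul_mem _ _ hv) (Submodule.smul_mem _ _ hw), ?_⟩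
      rw [map_add, map_smul, map_smul, ← hev, ← hew, smul_add, smul_smul, smul_smul, ← pow_add, ← pow_add,
        add_comm e' e]
    | smul r a _ ha =>
      obtain ⟨e, v, hv, hev⟩ := ha
      obtain ⟨⟨r₀, ⟨_, k, rfl⟩⟩, hr⟩ := IsLocalization.surj (Submonoid.powers f) r
      refine ⟨k + e, r₀ • v, Submodule.smul_mem _ _ hv, ?_⟩
      rw [map_smul, ← hev, ← algebraMap_smul R' (f ^ (k + e)), ← algebraMap_smul R' r₀,
        ← algebraMap_smul R' (f ^ e), smul_smul, smul_smul, pow_add, map_mul, ← hr]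
      congr 1
      ring
  obtain ⟨e, w, hw, hew⟩ := key _ hy
  obtain ⟨⟨_, k, rfl⟩, hk⟩ := (IsLocalizedModule.eq_iff_exists (Submonoid.powers f) l).1
    (show l (f ^ e • y) = l w by rw [map_smul, hew])
  refine ⟨k + e, ?_⟩
  rw [pow_add, mul_smul]
  rw [show f ^ k • f ^ e • y = f ^ k • w from hk]
  exact Submodule.smul_mem _ _ hw

theorem FPAt.exists_ker {f : A} (h : FPAt N f) {n : ℕ} (π : (Fin n → A) →ₗ[A] N)
    (hπ : ∀ y : N, ∃ e : ℕ, f ^ e • y ∈ LinearMap.range π) :
    ∃ s : Finset (Fin n → A), (s : Set (Fin n → A)) ⊆ LinearMap.ker π ∧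
      ∀ x ∈ LinearMap.ker π, ∃ e : ℕ, f ^ e • x ∈ Submodule.span A (s : Set (Fin n → A)) := by
  classical
  obtain ⟨R', _, _, _, N', _, _, _, _, l, hl, hfp⟩ := h
  let j : (Fin n → A) →ₗ[A] (Fin n → R') := (Algebra.linearMap A R').compLeft (Fin n)
  let π' : (Fin n → R') →ₗ[R'] N' := (Pi.basisFun R' (Fin n)).constr R' fun i => l (π (Pi.single i 1))
  have hj : ∀ x, π' (j x) = l (π x) := by
    intro x
    have : (π'.restrictScalars A) ∘ₗ j = l ∘ₗ π := by
      refine (Pi.basisFun A (Fin n)).ext fun i => ?_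
      show π' (j (Pi.basisFun A (Fin n) i)) = l (π (Pi.basisFun A (Fin n) i))
      rw [Pi.basisFun_apply, show j (Pi.single i 1) = Pi.single i (1 : R') from ?_]
      · rw [← Pi.basisFun_apply (R := R'), Module.Basis.constr_basis]
      · ext k
        by_cases hk : k = i
        · subst hk; simp [j]
        · simp [j, Pi.single_eq_of_ne hk]
    exact LinearMap.congr_fun this x
  have hfrac : ∀ z : Fin n → R', ∃ (k : ℕ) (v : Fin n → A), f ^ k • z = j v := by
    intro z
    obtain ⟨⟨_, k, rfl⟩, hb⟩ := IsLocalization.exist_integer_multiples_of_finite (Submonoid.powers f) z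
    choose v hv using hb
    exact ⟨k, v, funext fun i => (hv i).symm⟩
  have hsurj : Function.Surjective π' := by
    intro z
    obtain ⟨⟨y, ⟨_, k, rfl⟩⟩, hy⟩ := IsLocalizedModule.surj (Submonoid.powers f) l z
    obtain ⟨e, x, hx⟩ := hπ y
    have hu : IsUnit (algebraMap A R' (f ^ (k + e))) := by
      rw [map_pow]; exact (IsLocalization.Away.algebraMap_isUnit f).pow _
    obtain ⟨v, hv⟩ := hu
    refine ⟨(↑v⁻¹ : R') • j x, ?_⟩
    rw [map_smul, hj, hx, map_smul, ← hy, Submonoid.smul_def, smul_smul, ← pow_add, add_comm e k,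
      ← algebraMap_smul R' (f ^ (k + e)), ← hv, smul_smul, Units.inv_mul, one_smul]
  obtain ⟨t, ht⟩ := Module.FinitePresentation.fg_ker π' hsurj
  have hnum : ∀ z ∈ LinearMap.ker π', ∃ (k : ℕ) (v : Fin n → A), π v = 0 ∧ f ^ k • z = j v := by
    intro z hz
    obtain ⟨k, v, hv⟩ := hfrac z
    have h0 : l (π v) = 0 := by
      rw [← hj, ← hv, ← algebraMap_smul R', map_smul, show π' z = 0 from hz, smul_zero]
    obtain ⟨⟨_, m, rfl⟩, hm⟩ := (IsLocalizedModule.eq_zero_iff (Submonoid.powers f) l).1 h0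
    refine ⟨m + k, f ^ m • v, by rw [map_smul]; exact hm, ?_⟩
    rw [map_smul, ← hv, smul_smul, pow_add]
  choose kk vv hvv hkk using hnum
  refine ⟨t.attach.image fun z => vv z.1 (ht ▸ Submodule.subset_span z.2), ?_, fun x hx => ?_⟩
  · intro v hv
    obtain ⟨z, -, rfl⟩ := Finset.mem_image.1 (Finset.mem_coe.1 hv)
    exact hvv _ _
  have hjx : j x ∈ Submodule.span R' (t : Set (Fin n → R')) := by
    rw [ht, LinearMap.mem_ker, hj, show π x = 0 from hx, map_zero]
  have key : ∀ z ∈ Submodule.span R' (t : Set (Fin n → R')),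
      ∃ e : ℕ, ∃ w ∈ Submodule.span A ((t.attach.image fun z => vv z.1 (ht ▸ Submodule.subset_span z.2) :
        Finset (Fin n → A)) : Set (Fin n → A)), f ^ e • z = j w := by
    intro z hz
    induction hz using Submodule.span_induction with
    | mem z hz =>
      exact ⟨kk z (ht ▸ Submodule.subset_span hz), _,
        Submodule.subset_span (Finset.mem_image.2 ⟨⟨z, hz⟩, Finset.mem_attach _ _, rfl⟩), hkk _ _⟩
    | zero => exact ⟨0, 0, Submodule.zero_mem _, by simp⟩
    | add a b _ _ ha hb =>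
      obtain ⟨e, v, hv, hev⟩ := ha
      obtain ⟨e', w, hw, hew⟩ := hb
      refine ⟨e + e', f ^ e' • v + f ^ e • w, add_mem (Submodule.smul_mem _ _ hv) (Submodule.smul_mem _ _ hw), ?_⟩
      rw [map_add, map_smul, map_smul, ← hev, ← hew, smul_add, smul_smul, smul_smul, ← pow_add, ← pow_add,
        add_comm e' e]
    | smul r a _ ha =>
      obtain ⟨e, v, hv, hev⟩ := ha
      obtain ⟨⟨r₀, ⟨_, k, rfl⟩⟩, hr⟩ := IsLocalization.surj (Submonoid.powers f) r
      refine ⟨k + e, r₀ • v, Submodule.smul_mem _ _ hv, ?_⟩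
      rw [map_smul, ← hev, ← algebraMap_smul R' (f ^ (k + e)), ← algebraMap_smul R' r₀,
        ← algebraMap_smul R' (f ^ e), smul_smul, smul_smul, pow_add, map_mul, ← hr]
      congr 1
      ring
  obtain ⟨e, w, hw, hew⟩ := key _ hjx
  have hzero : ∀ i, algebraMap A R' ((f ^ e • x - w) i) = 0 := fun i => by
    have h1 : j (f ^ e • x - w) = 0 := by rw [map_sub, map_smul, hew, sub_self]
    exact congrFun h1 i
  choose m hm using fun i => (IsLocalization.map_eq_zero_iff (Submonoid.powers f) R' _).1 (hzero i)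
  choose q hq using fun i => (m i).2
  refine ⟨Finset.univ.sup q + e, ?_⟩
  have h0 : f ^ Finset.univ.sup q • (f ^ e • x - w) = 0 := funext fun i => by
    obtain ⟨c, hc⟩ := Nat.exists_eq_add_of_le (Finset.le_sup (f := q) (Finset.mem_univ i))
    have := hm i
    rw [← hq i] at this
    simp only [Pi.smul_apply, smul_eq_mul, Pi.zero_apply]
    rw [hc, pow_add, mul_comm (f ^ q i), mul_assoc, this, mul_zero]
  rw [smul_sub, smul_smul, ← pow_add, sub_eq_zero] at h0
  rw [h0]
  exact Submodule.smul_mem _ _ hw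

/-- A module finitely presented at finitely many elements is, there, a finitely presented one. -/
theorem exists_fp_approx {κ : Type*} [Finite κ] (f : κ → A) (h : ∀ k, FPAt N (f k)) :
    ∃ (n : ℕ) (K : Submodule A (Fin n → A)), K.FG ∧
      ∃ ψ : ((Fin n → A) ⧸ K) →ₗ[A] N, ∀ k, BijAt (f k) ψ := by
  classical
  cases nonempty_fintype κ
  choose s hs using fun k => (h k).exists_finset
  let T : Finset N := Finset.univ.biUnion s
  let π : (Fin T.card → A) →ₗ[A] N := Fintype.linearCombination A fun i => (T.equivFin.symm i : N)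
  have hπ : ∀ k, ∀ y : N, ∃ e : ℕ, f k ^ e • y ∈ LinearMap.range π := fun k y => by
    obtain ⟨e, he⟩ := hs k y
    refine ⟨e, (Submodule.span_le.2 ?_) he⟩
    intro z hz
    have hzT : z ∈ T := Finset.mem_biUnion.2 ⟨k, Finset.mem_univ _, hz⟩
    exact ⟨Pi.single (T.equivFin ⟨z, hzT⟩) 1, by simp [π, Fintype.linearCombination_apply_single]⟩
  choose t ht htspan using fun k => (h k).exists_ker π (hπ k)
  let K : Submodule A (Fin T.card → A) := Submodule.span A ((Finset.univ.biUnion t : Finset _) : Set _)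
  have hK : K ≤ LinearMap.ker π := Submodule.span_le.2 fun x hx => by
    obtain ⟨k, -, hk⟩ := Finset.mem_biUnion.1 (Finset.mem_coe.1 hx)
    exact ht k hk
  refine ⟨_, K, ⟨_, rfl⟩, K.liftQ π hK, fun k => ⟨fun y => ?_, fun m hm => ?_⟩⟩
  · obtain ⟨e, x, hx⟩ := hπ k y
    exact ⟨e, Submodule.Quotient.mk x, hx⟩
  · obtain ⟨x, rfl⟩ := Submodule.Quotient.mk_surjective K m
    obtain ⟨e, he⟩ := htspan k x hm
    refine ⟨e, ?_⟩
    rw [← Submodule.Quotient.mk_smul, Submodule.Quotient.mk_eq_zero]
    exact Submodule.span_mono (Finset.coe_subset.2 (Finset.subset_biUnion_of_mem t (Finset.mem_univ k))) he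

end GrothLib.FPExt9
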