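import Groth.Agent.Lib.FPExt9.Main
import Groth.Agent.Lib.QCohCat20.Compact
import Groth.Agent.Lib.QCohCat20.Separator
import Groth.Agent.Lib.GabRos20.Reconstruct
import Groth.Agent.Lib.LimRank8.Basic
import Groth.Agent.Lib.FinCov.FrameFree
import Mathlib.CategoryTheory.Presentable.StrongGenerator

/-!
# Quasi-coherent modules are filtered colimits of finitely presented ones
-/

set_option autoImplicit false
set_option linter.all false
set_option backward.isDefEq.respectTransparency false
universe u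

open CategoryTheory CategoryTheory.Limits AlgebraicGeometry TopologicalSpace Opposite

noncomputable section

namespace GrothLib.FPExt9

variable {X : Scheme.{u}}

/-- Finitely presented modules detect morphisms of quasi-coherent modules. -/
theorem exists_fp_detect [CompactSpace X] [QuasiSeparatedSpace X] {M N : X.Modules} [M.IsQuasicoherent]
    (f : M ⟶ N) (hf : f ≠ 0) :
    ∃ (G : X.Modules) (g : G ⟶ M), CohB1.IsFP G ∧ g ≫ f ≠ 0 := by
  by_contra! h
  refine hf (AffHom.hom_ext fun U s => ?_)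
  let V : X.Opens := U.1
  have hV : V.ι ''ᵁ ⊤ = V := V.ι_image_top
  let s' : Γ(M.restrict V.ι, ⊤) := M.presheaf.map (homOfLE hV.le).op s
  obtain ⟨G, g, e, hG, he⟩ := exists_extension M inferInstance V U.2.isCompact _
    (GabRos20.isFP_structureModule _) (FinCov.homOfSection s')
  have h0 := congrArg (Scheme.Modules.restrictFunctor V.ι).map (h G g hG)
  rw [Functor.map_comp, ← he, Functor.map_zero, Category.assoc] at h0
  have h1 : FinCov.homOfSection s' ≫ (Scheme.Modules.restrictFunctor V.ι).map f = 0 := by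
    rw [← cancel_epi e.hom, h0, comp_zero]
  have h2 := congrArg (fun q => q.app ⊤ (FinCov.one _ ⊤)) h1
  have h3 : ((Scheme.Modules.restrictFunctor V.ι).map f).app ⊤ ((FinCov.homOfSection s').app ⊤ (FinCov.one _ ⊤)) = 0 := h2
  rw [FinCov.homOfSection_one] at h3
  have h4 : f.app (V.ι ''ᵁ ⊤) (M.presheaf.map (homOfLE hV.le).op s) = 0 := by
    refine Eq.trans ?_ h3
    show _ = f.app _ ((M.restrict V.ι).presheaf.map (homOfLE le_rfl).op s')
    rw [show (homOfLE (le_refl (⊤ : (V : Scheme.{u}).Opens))).op = 𝟙 _ from rfl, (M.restrict V.ι).presheaf.map_id]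
    rfl
  refine (ZClosure.res_bijective_of_eq N hV.le hV).1 ?_
  show N.presheaf.map _ (f.app U.1 s) = N.presheaf.map _ ((0 : M ⟶ N).app U.1 s)
  rw [show (0 : M ⟶ N).app U.1 s = 0 from rfl, map_zero]
  exact (ConcreteCategory.congr_hom (f.mapPresheaf.naturality (homOfLE hV.le).op) s).symm.trans h4

theorem exists_filtered_colimit [CompactSpace X] [QuasiSeparatedSpace X] (F : X.Modules) (hF : Coh.IsQCoh F) :
    ∃ (I : Type u) (_ : SmallCategory I) (_ : IsFiltered I) (D : I ⥤ X.Modules) (c : Limits.Cocone D)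
      (_ : Limits.IsColimit c), (∀ i, CohB1.IsFP (D.obj i)) ∧ c.pt = F := by
  classical
  haveI : F.IsQuasicoherent := hF
  haveI : IsGrothendieckAbelian.{u} (QCohCat.QCoh X) :=
    haveI := QCohCat20.hasSeparator (X := X)
    QCohCat20.isGrothendieckAbelian
  obtain ⟨ι, _, V, hVA, -, hcov⟩ := QCoh.exists_finite_affine_cover (U := (⊤ : X.Opens))
    (by simpa using isCompact_univ)
  let e := Fintype.equivFin ι
  let W : Fin (Fintype.card ι) → X.Opens := fun l => V (e.symm l)
  have hW : ∀ l, IsAffineOpen (W l) := fun l => hVA _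
  have hcov' : ∀ x : X, ∃ l, x ∈ W l := fun x => by
    obtain ⟨i, hi⟩ := Opens.mem_iSup.1 (hcov (Set.mem_univ x))
    exact ⟨e i, by simpa [W] using hi⟩
  let I' : Type u := Σ d : QCohCat20.Data W, {S : Shrink.{u} (Subobject (QCohCat20.bound W hW d)) //
    (((equivShrink _).symm S : Subobject (QCohCat20.bound W hW d)) : X.Modules).IsQuasicoherent ∧
      CohB1.IsFP (((equivShrink _).symm S : Subobject (QCohCat20.bound W hW d)) : X.Modules)}
  let obj : I' → QCohCat.QCoh X := fun i =>
    ⟨(((equivShrink _).symm i.2.1 : Subobject (QCohCat20.bound W hW i.1)) : X.Modules), i.2.2.1⟩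
  let P : ObjectProperty (QCohCat.QCoh X) := ObjectProperty.ofObj obj
  haveI : Fact (Cardinal.aleph0.{u}).IsRegular := ⟨Cardinal.isRegular_aleph0⟩
  have hP2 : P ≤ isCardinalPresentable (QCohCat.QCoh X) Cardinal.aleph0.{u} := by
    rintro _ ⟨i⟩
    rw [isCardinalPresentable_iff]
    exact QCohCat20.isFinitelyPresentable_of_isFP _ i.2.2.2
  have hdetect : ∀ {M N : QCohCat.QCoh X} (f : M ⟶ N), f ≠ 0 →
      ∃ (G : QCohCat.QCoh X) (_ : P G) (g : G ⟶ M), g ≫ f ≠ 0 := fun {M N} f hf => by
    haveI : M.obj.IsQuasicoherent := M.property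
    obtain ⟨G, g, hG, hgf⟩ := exists_fp_detect f.hom fun h => hf (ObjectProperty.hom_ext _ h)
    haveI : G.IsQuasicoherent := FibPd.isQuasicoherent_of_isFP hG
    obtain ⟨d, φ, hφ⟩ := QCohCat20.exists_mono_bound W hW hcov' G (LimRank8.isFT_of_isFP G hG)
    let ψ : (((equivShrink _).symm (equivShrink _ (Subobject.mk φ)) : Subobject (QCohCat20.bound W hW d)) :
        X.Modules) ≅ G :=
      eqToIso (by rw [Equiv.symm_apply_apply]) ≪≫ Subobject.underlyingIso φ
    let k : I' := ⟨d, ⟨equivShrink _ (Subobject.mk φ), QCoh.isQuasicoherent_of_iso ψ.symm,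
      (SheafOfModules.isFinitePresentation X.ringCatSheaf).prop_of_iso ψ.symm hG⟩⟩
    refine ⟨obj k, ObjectProperty.ofObj.mk k, ObjectProperty.homMk (ψ.hom ≫ g), fun h => hgf ?_⟩
    have h' : (ψ.hom ≫ g) ≫ f.hom = 0 := congrArg (fun q : obj k ⟶ N => q.hom) h
    rw [← cancel_epi ψ.hom, ← Category.assoc, h', comp_zero]
  have hP1 : P.IsStrongGenerator := by
    rw [ObjectProperty.isStrongGenerator_iff]
    refine ⟨fun M N f g h => ?_, fun M N i _ h => ?_⟩
    · by_contra hne
      obtain ⟨G, hG, q, hq⟩ := hdetect (f - g) (sub_ne_zero.2 hne)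
      exact hq (by rw [Preadditive.comp_sub, h G hG q, sub_self])
    · haveI : Epi i := Preadditive.epi_of_cokernel_zero <| by
        by_contra hne
        obtain ⟨G, hG, q, hq⟩ := hdetect _ hne
        obtain ⟨q', rfl⟩ := h G hG q
        exact hq (by simp)
      exact isIso_of_mono_of_epi i
  haveI : ObjectProperty.Small.{u} P := inferInstance
  have hd := hP1.isDense_colimitsCardinalClosure_ι hP2
  have hgen := IsCardinalFilteredGenerator.of_isDense_ι (P.colimitsCardinalClosure Cardinal.aleph0.{u})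
    Cardinal.aleph0.{u} (P.colimitsCardinalClosure_le_isCardinalPresentable hP2)
  obtain ⟨J, _, _, ⟨p⟩⟩ := hgen.exists_colimitsOfShape ⟨F, hF⟩
  haveI : IsFiltered J := isFiltered_of_isCardinalFiltered J Cardinal.aleph0.{u}
  haveI := QCohCat20.preservesColimit_ι p.diag
  refine ⟨J, inferInstance, inferInstance, p.diag ⋙ (QCohCat.isQCoh X).ι, _,
    isColimitOfPreserves (QCohCat.isQCoh X).ι p.isColimit, fun j => ?_, rfl⟩
  haveI : IsFinitelyPresentable.{u} (p.diag.obj j) :=
    (isCardinalPresentable_iff _ _).1 (hgen.le_isCardinalPresentable _ (p.prop_diag_obj j))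
  exact QCohCat20.isFP_of_isFinitelyPresentable (p.diag.obj j)

end GrothLib.FPExt9
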