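import Groth.Prelude.Def_CohB1
import Groth.Agent.Lib.FPExt9.Alg
import Groth.Agent.Lib.FlatFP.Kernel
import Groth.Agent.Lib.FlatFP.Sheaf
import Groth.Agent.Lib.FlatFP.Syzygy
import Groth.Agent.Lib.LocProj.Scheme
import Groth.Agent.Lib.QCoh.FT
import Groth.Agent.Lib.QCoh.Qcqs
import Groth.Agent.Lib.QCoh.Abelian
import Groth.Agent.Lib.QCoh.Filtration
import Groth.Agent.Lib.InvExt.Transfer
import Groth.Agent.Lib.Cohom.Serre
import Groth.Agent.Lib.Stein.General
import Groth.Agent.Lib.FibPd.OpenScheme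
import Groth.Agent.Lib.ZClos.Basic

/-!
# Extending finitely presented modules over quasi-compact opens
-/

set_option autoImplicit false
set_option linter.all false
set_option backward.isDefEq.respectTransparency false
universe u

open CategoryTheory CategoryTheory.Limits AlgebraicGeometry TopologicalSpace Opposite

noncomputable section

namespace GrothLib.FPExt9

variable {X : Scheme.{u}}

attribute [local instance] LocProj.secBasicModule LocProj.secBasicTower

theorem isQuasicoherent_pullback' {A B C : X.Modules} [A.IsQuasicoherent] [B.IsQuasicoherent]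
    [C.IsQuasicoherent] (f : A ⟶ C) (g : B ⟶ C) : (pullback f g).IsQuasicoherent := by
  haveI : (A ⊞ B).IsQuasicoherent := Cohom.isQuasicoherent_biprod A B
  let d : A ⊞ B ⟶ C := biprod.desc f (-g)
  haveI : (kernel d).IsQuasicoherent := QCoh.isQuasicoherent_kernel d
  have hk : (kernel.ι d ≫ biprod.fst) ≫ f = (kernel.ι d ≫ biprod.snd) ≫ g := by
    rw [← sub_eq_zero]
    refine Eq.trans ?_ (kernel.condition d)
    simp only [d, biprod.desc_eq, Preadditive.comp_add, Category.assoc, Preadditive.comp_neg]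
    rw [sub_eq_add_neg]
  let e : kernel d ≅ pullback f g :=
    { hom := pullback.lift _ _ hk
      inv := kernel.lift d (biprod.lift (pullback.fst f g) (pullback.snd f g)) (by
        simp only [d, biprod.lift_desc, Preadditive.comp_neg, pullback.condition]
        exact add_neg_cancel _)
      hom_inv_id := by
        refine equalizer.hom_ext ?_
        refine biprod.hom_ext _ _ ?_ ?_
        · simp
        · simp
      inv_hom_id := by
        refine pullback.hom_ext ?_ ?_
        · simp
        · simp }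
  exact QCoh.isQuasicoherent_of_iso e

theorem app_bijective_of_isIso_restrict {M N : X.Modules} (f : M ⟶ N) {U T : X.Opens}
    (h : IsIso ((Scheme.Modules.restrictFunctor U.ι).map f)) (hT : T ≤ U) :
    Function.Bijective (f.app T) := by
  haveI := h
  have h1 := ConcreteCategory.bijective_of_isIso (((Scheme.Modules.restrictFunctor U.ι).map f).app (U.ι ⁻¹ᵁ T))
  have he : U.ι ''ᵁ (U.ι ⁻¹ᵁ T) = T := by
    rw [Scheme.Hom.image_preimage_eq_opensRange_inf, Scheme.Opens.opensRange_ι, inf_eq_right]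
    exact hT
  have h2 : Function.Bijective (f.app (U.ι ''ᵁ (U.ι ⁻¹ᵁ T))) := h1
  rwa [he] at h2

theorem isIso_restrict_of_bijective {M N : X.Modules} (f : M ⟶ N) (U : X.Opens)
    (h : ∀ T ≤ U, Function.Bijective (f.app T)) : IsIso ((Scheme.Modules.restrictFunctor U.ι).map f) :=
  Scheme.Modules.Hom.isIso_iff_isIso_app.mpr fun T => (ConcreteCategory.isIso_iff_bijective _).mpr
    (h (U.ι ''ᵁ T) ((U.ι.image_le_opensRange T).trans U.opensRange_ι.le))

/-- A morphism, bijective up to powers of `g` on an affine open, is bijective on the principal open. -/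
theorem app_bijective_basicOpen {P Q : X.Modules} [P.IsQuasicoherent] [Q.IsQuasicoherent] (f : P ⟶ Q)
    {V : X.Opens} (hV : IsAffineOpen V) (g : Γ(X, V)) (h : BijAt g (QCoh.appLinear f V)) :
    Function.Bijective (f.app (X.basicOpen g)) := by
  haveI hP := LocProj.isLocalizedModule_resBasic P g hV
  haveI hQ := LocProj.isLocalizedModule_resBasic Q g hV
  have hu : ∀ (k : ℕ), IsUnit (algebraMap Γ(X, V) Γ(X, X.basicOpen g) (g ^ k)) := fun k => by
    haveI := hV.isLocalization_basicOpen g
    rw [map_pow]; exact (IsLocalization.Away.algebraMap_isUnit g).pow _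
  have hnat : ∀ x : Γ(P, V), f.app (X.basicOpen g) (LocProj.resBasic P g x) =
      LocProj.resBasic Q g (f.app V x) :=
    fun x => ConcreteCategory.congr_hom (f.mapPresheaf.naturality (homOfLE (X.basicOpen_le g)).op) x
  let F := QCoh.appLinear f (X.basicOpen g)
  refine ⟨(injective_iff_map_eq_zero _).2 fun z hz => ?_, fun z => ?_⟩
  · obtain ⟨⟨x, ⟨_, k, rfl⟩⟩, hx⟩ := IsLocalizedModule.surj (Submonoid.powers g) (LocProj.resBasic P g) z
    have h0 : LocProj.resBasic Q g (f.app V x) = 0 := by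
      rw [← hnat, ← hx]
      show F ((algebraMap Γ(X, V) Γ(X, X.basicOpen g) (g ^ k)) • z) = 0
      rw [map_smul]
      show algebraMap Γ(X, V) Γ(X, X.basicOpen g) (g ^ k) • f.app (X.basicOpen g) z = 0
      rw [hz, smul_zero]
    obtain ⟨⟨_, m, rfl⟩, hm⟩ := (IsLocalizedModule.eq_zero_iff (Submonoid.powers g) (LocProj.resBasic Q g)).1 h0
    obtain ⟨e, he⟩ := h.2 (g ^ m • x) (((QCoh.appLinear f V).map_smul _ _).trans hm)
    have h1 : LocProj.resBasic P g x = 0 :=
      (IsLocalizedModule.eq_zero_iff (Submonoid.powers g) (LocProj.resBasic P g)).2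
        ⟨⟨g ^ (e + m), e + m, rfl⟩, by show g ^ (e + m) • x = 0; rw [pow_add, mul_smul, he]⟩
    rw [h1] at hx
    exact (hu k).smul_eq_zero.1 hx
  · obtain ⟨⟨y, ⟨_, k, rfl⟩⟩, hy⟩ := IsLocalizedModule.surj (Submonoid.powers g) (LocProj.resBasic Q g) z
    obtain ⟨e, x, hx⟩ := h.1 y
    obtain ⟨v, hv⟩ := hu (e + k)
    refine ⟨(↑v⁻¹ : Γ(X, X.basicOpen g)) • LocProj.resBasic P g x, ?_⟩
    show F _ = z
    rw [map_smul]
    show (↑v⁻¹ : Γ(X, X.basicOpen g)) • f.app (X.basicOpen g) (LocProj.resBasic P g x) = z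
    rw [hnat, show f.app V x = g ^ e • y from hx, map_smul, ← hy, Submonoid.smul_def, smul_smul, ← pow_add,
      ← algebraMap_smul Γ(X, X.basicOpen g) (g ^ (e + k)), ← hv, smul_smul, Units.inv_mul, one_smul]

/-- Finite presentation of sections. -/
def FPSec (P : X.Modules) (W : X.Opens) : Prop := Module.FinitePresentation Γ(X, W) Γ(P, W)

theorem FPSec.basicOpen {P : X.Modules} [P.IsQuasicoherent] {W : X.Opens} (hW : IsAffineOpen W)
    (h : FPSec P W) (g : Γ(X, W)) : FPSec P (X.basicOpen g) := by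
  haveI := LocProj.isLocalizedModule_resBasic P g hW
  haveI := hW.isLocalization_basicOpen g
  haveI : Module.FinitePresentation Γ(X, W) Γ(P, W) := h
  exact FinitePresentation.of_isBaseChange (LocProj.resBasic P g)
    (IsLocalizedModule.isBaseChange (Submonoid.powers g) _ _)

theorem fpAt_of_fpSec {P : X.Modules} [P.IsQuasicoherent] {V : X.Opens} (hV : IsAffineOpen V)
    (g : Γ(X, V)) (h : FPSec P (X.basicOpen g)) : FPAt Γ(P, V) g := by
  exact ⟨Γ(X, X.basicOpen g), inferInstance, inferInstance, hV.isLocalization_basicOpen g,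
    Γ(P, X.basicOpen g), inferInstance, inferInstance, inferInstance, inferInstance,
    LocProj.resBasic P g, LocProj.isLocalizedModule_resBasic P g hV, h⟩

theorem fpSec_of_isFP_restrict {P : X.Modules} [P.IsQuasicoherent] (U : X.Opens)
    (h : CohB1.IsFP (P.restrict U.ι)) {W : X.Opens} (hW : IsAffineOpen W) (hWU : W ≤ U) : FPSec P W := by
  let W' := U.ι ⁻¹ᵁ W
  have hW'W : U.ι ''ᵁ W' = W := by
    rw [Scheme.Hom.image_preimage_eq_opensRange_inf, Scheme.Opens.opensRange_ι, inf_eq_right]
    exact hWU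
  have hW' : IsAffineOpen W' :=
    ((Scheme.Hom.isAffineOpen_iff_of_isOpenImmersion U.ι)).1 (by rw [hW'W]; exact hW)
  haveI : Module.FinitePresentation Γ(U, W') Γ(P.restrict U.ι, W') :=
    FlatFP.finitePresentation_sections (P.restrict U.ι) h hW'
  letI : Algebra Γ(U, W') Γ(X, U.ι ''ᵁ W') := (U.ι.appIso W').inv.hom.toAlgebra
  letI : Module Γ(U, W') Γ(P, U.ι ''ᵁ W') := inferInstanceAs (Module Γ(U, W') Γ(P.restrict U.ι, W'))
  haveI : Module.FinitePresentation Γ(U, W') Γ(P, U.ι ''ᵁ W') :=
    ‹Module.FinitePresentation Γ(U, W') Γ(P.restrict U.ι, W')›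
  haveI : IsScalarTower Γ(U, W') Γ(X, U.ι ''ᵁ W') Γ(P, U.ι ''ᵁ W') :=
    IsScalarTower.of_algebraMap_smul fun c m => (InvExt.restrict_smul U.ι P c m).symm
  have h2 : FPSec P (U.ι ''ᵁ W') := FlatFP.finitePresentation_of_surjective_algebraMap (C := Γ(U, W'))
    ((U.ι.appIso W').symm.commRingCatIsoToRingEquiv.surjective)
  rwa [hW'W] at h2

section Local

variable [QuasiSeparatedSpace X]

theorem exists_local (P : X.Modules) [P.IsQuasicoherent] {V : X.Opens} (hV : IsAffineOpen V)
    (n : ℕ) (K : Submodule Γ(X, V) (Fin n → Γ(X, V))) (hK : K.FG)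
    (ψ : ((Fin n → Γ(X, V)) ⧸ K) →ₗ[Γ(X, V)] Γ(P, V)) :
    ∃ (Q : (Spec Γ(X, V)).Modules) (h : Q ⟶ P.restrict hV.fromSpec),
      Q.IsQuasicoherent ∧ FPSec ((Scheme.Modules.pushforward hV.fromSpec).obj Q) V ∧
      ∀ g : Γ(X, V), BijAt g ψ → BijAt g (QCoh.appLinear
        ((Scheme.Modules.pushforward hV.fromSpec).map h) V) := by
  let A := Γ(X, V)
  haveI : Module.FinitePresentation A ((Fin n → A) ⧸ K) :=
    Module.finitePresentation_of_surjective K.mkQ K.mkQ_surjective (by rwa [Submodule.ker_mkQ])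
  let M : ModuleCat.{u} A := ModuleCat.of A ((Fin n → A) ⧸ K)
  let R := P.restrict hV.fromSpec
  let ψ₁ : M →ₗ[A] ((modulesSpecToSheaf.obj R).presheaf.obj (.op ⊤)) :=
    (QCoh.topLinearEquiv hV P).symm.toLinearMap ∘ₗ ψ
  let ψ' : M ⟶ (modulesSpecToSheaf.obj R).presheaf.obj (.op ⊤) :=
    (ModuleCat.ofHom ψ : M ⟶ ModuleCat.of A Γ(P, V)) ≫ (QCoh.topLinearEquiv hV P).toModuleIso.inv
  let h : tilde M ⟶ R := (tilde.adjunction.homEquiv M R).symm ψ'
  have hh : ∀ m : M, h.app ⊤ ((tilde.isoTop M).hom m) = ψ' m := fun m => by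
    have := (tilde.adjunction (R := A)).homEquiv_unit M R h
    rw [Equiv.apply_symm_apply] at this
    exact (ConcreteCategory.congr_hom this m).symm
  refine ⟨tilde M, h, inferInstance, ?_⟩
  let T := hV.fromSpec ⁻¹ᵁ V
  have hT : T = ⊤ := hV.fromSpec_preimage_self
  let E (S : (Spec A).Modules) : Γ(S, ⊤) →ₗ[A] Γ((Scheme.Modules.pushforward hV.fromSpec).obj S, V) :=
    { toFun := fun x => S.presheaf.map (homOfLE (le_top : T ≤ ⊤)).op x
      map_add' := map_add _
      map_smul' := fun r x => by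
        refine Eq.trans ?_ (QCoh.pushforward_smul hV.fromSpec S r _).symm
        show S.presheaf.map _ (r • x) = hV.fromSpec.app V r • _
        rw [Scheme.Modules.smul_Spec_def, Scheme.Modules.map_smul, hV.fromSpec_app_self]
        congr 1 }
  have hE : ∀ S : (Spec A).Modules, Function.Bijective (E S) := fun S =>
    ZClosure.res_bijective_of_eq S (le_top : T ≤ ⊤) hT
  let eM : M ≃ₗ[A] Γ((Scheme.Modules.pushforward hV.fromSpec).obj (tilde M), V) :=
    (tilde.isoTop M).toLinearEquiv ≪≫ₗ LinearEquiv.ofBijective (E _) (hE _)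
  refine ⟨Module.FinitePresentation.of_equiv eM, fun g hg => ?_⟩
  have key : ∀ m : M, QCoh.appLinear ((Scheme.Modules.pushforward hV.fromSpec).map h) V (eM m) = E R (ψ' m) := by
    intro m
    show h.app T ((tilde M).presheaf.map (homOfLE le_top).op ((tilde.isoTop M).hom m)) = R.presheaf.map (homOfLE le_top).op (ψ' m)
    rw [← hh]
    exact ConcreteCategory.congr_hom (h.mapPresheaf.naturality (homOfLE (le_top : T ≤ ⊤)).op) _
  refine ⟨fun y => ?_, fun z hz => ?_⟩
  · obtain ⟨y', rfl⟩ := (hE R).2 y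
    obtain ⟨e, m, hm⟩ := hg.1 (QCoh.topLinearEquiv hV P y')
    refine ⟨e, eM m, ?_⟩
    rw [key, ← map_smul]
    congr 1
    have hm1 : (QCoh.topLinearEquiv hV P).symm (ψ m) = g ^ e • y' := by
      rw [hm, map_smul, LinearEquiv.symm_apply_apply]
    exact hm1
  · obtain ⟨m, rfl⟩ := eM.surjective z
    rw [key] at hz
    have h0 : ψ' m = 0 := (hE R).1 (hz.trans (map_zero (E R)).symm)
    have h1 : (QCoh.topLinearEquiv hV P).symm (ψ m) = 0 := h0
    obtain ⟨e, he⟩ := hg.2 m (by simpa using h1)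
    exact ⟨e, by rw [← map_smul, he, map_zero]⟩

/-- Making the sections over one more affine open finitely presented. -/
theorem exists_step (P : X.Modules) [P.IsQuasicoherent] {κ : Type u} [Finite κ] (W : κ → X.Opens)
    (hW : ∀ i, IsAffineOpen (W i)) (hfp : ∀ i, FPSec P (W i)) {V : X.Opens} (hV : IsAffineOpen V) :
    ∃ (P' : X.Modules) (a : P' ⟶ P), P'.IsQuasicoherent ∧
      (∀ i, IsIso ((Scheme.Modules.restrictFunctor (W i).ι).map a)) ∧ FPSec P' V := by
  classical
  let T : X.Opens := (⨆ i, W i) ⊓ V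
  have hT : IsCompact (T : Set X) := by
    refine QuasiSeparatedSpace.inter_isCompact _ _ (⨆ i, W i).2 ?_ V.2 hV.isCompact
    rw [Opens.coe_iSup]
    exact isCompact_iUnion fun i => (hW i).isCompact
  have hpt : ∀ x : T, ∃ (i : κ) (g : Γ(X, V)) (f : Γ(X, W i)),
      X.basicOpen f = X.basicOpen g ∧ x.1 ∈ X.basicOpen g := by
    rintro ⟨x, hxW, hxV⟩
    obtain ⟨i, hi⟩ := Opens.mem_iSup.1 hxW
    obtain ⟨f, g, e, hx⟩ := exists_basicOpen_le_affine_inter (hW i) hV x ⟨hi, hxV⟩
    exact ⟨i, g, f, e, e ▸ hx⟩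
  choose ix g fx hfg hxg using hpt
  obtain ⟨s, hs⟩ := hT.elim_finite_subcover (fun x : T => (X.basicOpen (g x) : Set X))
    (fun x => (X.basicOpen (g x)).2) fun x hx => Set.mem_iUnion.2 ⟨⟨x, hx⟩, hxg _⟩
  have hat : ∀ x : s, FPAt Γ(P, V) (g x.1) := fun x => by
    refine fpAt_of_fpSec hV _ ?_
    rw [← hfg]
    exact (hfp _).basicOpen (hW _) _
  obtain ⟨n, K, hK, ψ, hψ⟩ := exists_fp_approx (fun x : s => g x.1) hat
  obtain ⟨Q, h, hQ, hQfp, hbij⟩ := exists_local P hV n K hK ψ
  let k := hV.fromSpec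
  haveI : QuasiCompact k := by
    constructor
    intro S hSo hSc
    rw [Scheme.Hom.isOpenEmbedding k |>.isInducing |>.isCompact_iff, Set.image_preimage_eq_inter_range,
      hV.range_fromSpec]
    exact QuasiSeparatedSpace.inter_isCompact _ _ hSo hSc V.2 hV.isCompact
  haveI : QuasiSeparated k := inferInstance
  haveI : ((Scheme.Modules.restrictFunctor k).obj P).IsQuasicoherent := inferInstance
  haveI := QCoh.isQuasicoherent_pushforward k Q
  haveI := QCoh.isQuasicoherent_pushforward k (P.restrict k)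
  let η : P ⟶ (Scheme.Modules.pushforward k).obj (P.restrict k) :=
    (Scheme.Modules.restrictAdjunction k).unit.app P
  let kh := (Scheme.Modules.pushforward k).map h
  refine ⟨pullback η kh, pullback.fst _ _, isQuasicoherent_pullback' _ _, fun i => ?_, ?_⟩
  · let Ω : X.Opens := ⨆ x : s, X.basicOpen (g x.1)
    haveI hΩ : IsIso ((Scheme.Modules.restrictFunctor Ω.ι).map kh) := by
      refine QCoh.isIso_of_bijective_on_cover _ (fun x : s => Ω.ι ⁻¹ᵁ X.basicOpen (g x.1)) ?_ (fun x => ?_) fun x => ?_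
      · refine eq_top_iff.2 fun y _ => ?_
        obtain ⟨x, hx⟩ := Opens.mem_iSup.1 (show y.1 ∈ Ω from y.2)
        exact Opens.mem_iSup.2 ⟨x, hx⟩
      · refine ((Scheme.Hom.isAffineOpen_iff_of_isOpenImmersion Ω.ι)).1 ?_
        rw [Scheme.Hom.image_preimage_eq_opensRange_inf, Scheme.Opens.opensRange_ι,
          inf_eq_right.2 (le_iSup (fun x : s => X.basicOpen (g x.1)) x)]
        exact hV.basicOpen _
      · show Function.Bijective (kh.app (Ω.ι ''ᵁ (Ω.ι ⁻¹ᵁ X.basicOpen (g x.1))))
        rw [Scheme.Hom.image_preimage_eq_opensRange_inf, Scheme.Opens.opensRange_ι,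
          inf_eq_right.2 (le_iSup (fun x : s => X.basicOpen (g x.1)) x)]
        exact app_bijective_basicOpen kh hV _ (hbij _ (hψ x))
    have hbot : ∀ S ≤ W i, Function.Bijective (kh.app S) := fun S hS => by
      have hSV : S ⊓ V ≤ Ω := fun y hy => by
        obtain ⟨x, hx, hyx⟩ := Set.mem_iUnion₂.1
          (hs (show y ∈ T from ⟨Opens.mem_iSup.2 ⟨i, hS hy.1⟩, hy.2⟩))
        exact Opens.mem_iSup.2 ⟨⟨x, hx⟩, hyx⟩
      have h1 := app_bijective_of_isIso_restrict kh hΩ hSV
      have he : k ⁻¹ᵁ (S ⊓ V) = k ⁻¹ᵁ S := by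
        rw [Scheme.Hom.preimage_inf, hV.fromSpec_preimage_self, inf_top_eq]
      change Function.Bijective (h.app (k ⁻¹ᵁ (S ⊓ V))) at h1
      rw [he] at h1
      exact h1
    haveI := isIso_restrict_of_bijective kh (W i) hbot
    exact MorphismProperty.of_isPullback
      ((IsPullback.of_hasPullback η kh).map (Scheme.Modules.restrictFunctor (W i).ι)).flip
      (P := MorphismProperty.isomorphisms _) ‹_›
  · haveI : IsIso ((Scheme.Modules.restrictFunctor V.ι).map η) :=
      isIso_restrict_of_bijective η V fun S hS => by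
        show Function.Bijective (((Scheme.Modules.restrictAdjunction k).unit.app P).app S)
        rw [Scheme.Modules.restrictAdjunction_unit_app_app]
        refine ZClosure.res_bijective_of_eq P _ ?_
        rw [Scheme.Hom.image_preimage_eq_opensRange_inf, hV.opensRange_fromSpec, inf_eq_right]
        exact hS
    haveI h2 : IsIso ((Scheme.Modules.restrictFunctor V.ι).map (pullback.snd η kh)) :=
      MorphismProperty.of_isPullback
        ((IsPullback.of_hasPullback η kh).map (Scheme.Modules.restrictFunctor V.ι))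
        (P := MorphismProperty.isomorphisms _) ‹_›
    haveI : Module.FinitePresentation Γ(X, V) Γ((Scheme.Modules.pushforward k).obj Q, V) := hQfp
    exact Module.FinitePresentation.of_equiv
      (LinearEquiv.ofBijective (QCoh.appLinear (pullback.snd η kh) V)
        (app_bijective_of_isIso_restrict _ h2 le_rfl)).symm

theorem exists_list (P : X.Modules) [P.IsQuasicoherent] {κ : Type u} [Finite κ] (W : κ → X.Opens)
    (hW : ∀ i, IsAffineOpen (W i)) (hfp : ∀ i, FPSec P (W i)) (l : List X.affineOpens) :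
    ∃ (P' : X.Modules) (a : P' ⟶ P), P'.IsQuasicoherent ∧
      (∀ i, IsIso ((Scheme.Modules.restrictFunctor (W i).ι).map a)) ∧
      (∀ i, FPSec P' (W i)) ∧ ∀ V ∈ l, FPSec P' V.1 := by
  induction l generalizing P κ W with
  | nil => exact ⟨P, 𝟙 _, inferInstance, fun i => inferInstance, hfp, by simp⟩
  | cons V l ih =>
    obtain ⟨P₁, a₁, hP₁, hiso, hV⟩ := exists_step P W hW hfp V.2
    haveI := hP₁
    have hfp₁ : ∀ i, FPSec P₁ (W i) := fun i => by
      haveI : Module.FinitePresentation Γ(X, W i) Γ(P, W i) := hfp i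
      exact Module.FinitePresentation.of_equiv (LinearEquiv.ofBijective (QCoh.appLinear a₁ (W i))
        (app_bijective_of_isIso_restrict a₁ (hiso i) le_rfl)).symm
    let W' : Option κ → X.Opens := fun o => o.elim V.1 W
    obtain ⟨P₂, a₂, hP₂, hiso₂, hfp₂, hl⟩ := ih P₁ W'
      (fun o => by cases o; exacts [V.2, hW _]) (fun o => by cases o; exacts [hV, hfp₁ _])
    refine ⟨P₂, a₂ ≫ a₁, hP₂, fun i => ?_, fun i => hfp₂ (some i), fun U hU => ?_⟩
    · haveI := hiso i
      haveI : IsIso ((Scheme.Modules.restrictFunctor (W i).ι).map a₂) := hiso₂ (some i)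
      rw [Functor.map_comp]
      infer_instance
    · rcases List.mem_cons.1 hU with rfl | hU
      exacts [hfp₂ none, hl U hU]

end Local

/-- Finitely presented modules on a quasi-compact open extend, with a map to a given quasi-coherent module. -/
theorem exists_extension [CompactSpace X] [QuasiSeparatedSpace X] (F : X.Modules) (hF : Coh.IsQCoh F)
    (U : X.Opens) (hU : IsCompact (U : Set X)) (G : (U : Scheme.{u}).Modules)
    (hG : CohB1.IsFP G) (φ : G ⟶ F.restrict U.ι) :
    ∃ (G' : X.Modules) (φ' : G' ⟶ F) (e : G'.restrict U.ι ≅ G), CohB1.IsFP G' ∧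
      e.hom ≫ φ = (Scheme.Modules.restrictFunctor U.ι).map φ' := by
  haveI : F.IsQuasicoherent := hF
  haveI : G.IsQuasicoherent := FibPd.isQuasicoherent_of_isFP hG
  haveI : CompactSpace ↥U := isCompact_iff_compactSpace.1 hU
  haveI : QuasiCompact U.ι := by
    constructor
    intro S hSo hSc
    rw [Scheme.Hom.isOpenEmbedding U.ι |>.isInducing |>.isCompact_iff, Set.image_preimage_eq_inter_range,
      Scheme.Opens.range_ι]
    exact QuasiSeparatedSpace.inter_isCompact _ _ hSo hSc U.2 hU
  haveI : QuasiSeparated U.ι := inferInstance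
  let j := (Scheme.Modules.pushforward U.ι)
  let R := Scheme.Modules.restrictFunctor U.ι
  let adj := Scheme.Modules.restrictAdjunction U.ι
  haveI := QCoh.isQuasicoherent_pushforward U.ι G
  haveI : (R.obj F).IsQuasicoherent := inferInstance
  haveI := QCoh.isQuasicoherent_pushforward U.ι (R.obj F)
  let η : F ⟶ j.obj (R.obj F) := adj.unit.app F
  let P := pullback (j.map φ) η
  haveI : P.IsQuasicoherent := isQuasicoherent_pullback' _ _
  haveI : IsIso (R.map η) := by
    haveI : IsIso (R.map η ≫ adj.counit.app (R.obj F)) := by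
      rw [adj.left_triangle_components F]; infer_instance
    exact IsIso.of_isIso_comp_right _ (adj.counit.app (R.obj F))
  haveI h1 : IsIso (R.map (pullback.fst (j.map φ) η)) :=
    MorphismProperty.of_isPullback ((IsPullback.of_hasPullback (j.map φ) η).map R).flip
      (P := MorphismProperty.isomorphisms _) ‹IsIso (R.map η)›
  let e₀ : R.obj P ≅ G := asIso (R.map (pullback.fst (j.map φ) η)) ≪≫ asIso (adj.counit.app G)
  have hPfp : CohB1.IsFP (P.restrict U.ι) :=
    (SheafOfModules.isFinitePresentation (U : Scheme.{u}).ringCatSheaf).prop_of_iso e₀.symm hG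
  obtain ⟨ι₀, _, W, hWA, hWU, hcov⟩ := QCoh.exists_finite_affine_cover hU
  obtain ⟨ι₁, _, V, hVA, -, hVcov⟩ := QCoh.exists_finite_affine_cover (U := (⊤ : X.Opens))
    (by simpa using isCompact_univ)
  obtain ⟨P', a, hP', hiso, -, hl⟩ := exists_list P W hWA (fun i => fpSec_of_isFP_restrict U hPfp (hWA i) (hWU i))
    ((Finset.univ : Finset ι₁).toList.map fun i => (⟨V i, hVA i⟩ : X.affineOpens))
  haveI := hP'
  haveI : IsIso (R.map a) := isIso_restrict_of_bijective a U fun T hT => by
    have key : ∀ i, ∀ S ≤ W i, Function.Bijective (a.app S) := fun i S hS =>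
      app_bijective_of_isIso_restrict a (hiso i) hS
    refine (ConcreteCategory.isIso_iff_bijective _).1 ?_
    have : IsIso ((Scheme.Modules.restrictFunctor T.ι).map a) := by
      refine Stein.isIso_of_bijective_basis _ (fun S => ∃ i, T.ι ''ᵁ S ≤ W i) (fun S x hx => ?_) fun S ⟨i, hS⟩ => key i _ hS
      obtain ⟨i, hi⟩ := Opens.mem_iSup.1 (hcov (hT x.2))
      refine ⟨S ⊓ T.ι ⁻¹ᵁ W i, ⟨i, ?_⟩, ⟨hx, hi⟩, inf_le_left⟩
      rintro _ ⟨y, hy, rfl⟩
      exact hy.2
    exact (ConcreteCategory.isIso_iff_bijective _).2 (app_bijective_of_isIso_restrict a this le_rfl)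
  refine ⟨P', a ≫ pullback.snd _ _, asIso (R.map a) ≪≫ e₀, ?_, ?_⟩
  · refine FlatFP.isFP_of_sections P' V (top_le_iff.1 hVcov) hVA fun i => hl ⟨V i, hVA i⟩ ?_
    simp only [List.mem_map, Finset.mem_toList]
    exact ⟨i, Finset.mem_univ _, rfl⟩
  · show (R.map a ≫ R.map (pullback.fst (j.map φ) η) ≫ adj.counit.app G) ≫ φ = R.map (a ≫ pullback.snd _ _)
    rw [Functor.map_comp, Category.assoc, Category.assoc]
    congr 1
    have hn : adj.counit.app G ≫ φ = R.map (j.map φ) ≫ adj.counit.app (R.obj F) := (adj.counit.naturality φ).symm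
    rw [hn, ← Functor.map_comp_assoc, pullback.condition, Functor.map_comp, Category.assoc,
      adj.left_triangle_components F]
    exact Category.comp_id _

end GrothLib.FPExt9
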